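import Groth.Agent.SmoothGrpTors.EtalePow
import Groth.Agent.GrpFieldLib.SmoothDense
import Groth.Agent.GModLib.UnipotentRadical
import Groth.Agent.TorsPtsLib.Count
import Mathlib.AlgebraicGeometry.AlgClosed.Basic

/-!
Divisibility of the points of a connected smooth commutative group by integers prime to the
characteristic, and absence of such torsion when there is no subtorus.
-/

set_option autoImplicit false
set_option linter.style.haveILetI false
set_option backward.isDefEq.respectTransparency false

universe u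

open CategoryTheory CategoryTheory.Limits MonoidalCategory CartesianMonoidalCategory MonObj GrpObj AlgebraicGeometry

namespace Groth.Agent.PseudoAbTate

variable {K : Type u} [Field K] [IsAlgClosed K]

local notation "pt₀" => (𝟙_ (Over (Spec (CommRingCat.of K))))

/-- Rational points lift along morphisms locally of finite type whose image contains them. -/
theorem exists_point_lift {X Y : Over (Spec (CommRingCat.of K))} (φ : X ⟶ Y) [LocallyOfFiniteType φ.left]
    (b : pt₀ ⟶ Y) {x : X.left} (hx : φ.left x = b.left (IsLocalRing.closedPoint K)) :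
    ∃ a : pt₀ ⟶ X, a ≫ φ = b := by
  let Q := pullback b.left φ.left
  let q : Q ⟶ Spec (CommRingCat.of K) := pullback.fst b.left φ.left
  haveI : LocallyOfFiniteType q := MorphismProperty.pullback_fst _ _ inferInstance
  haveI : JacobsonSpace Q := LocallyOfFiniteType.jacobsonSpace q
  obtain ⟨z, -, -⟩ := Scheme.Pullback.exists_preimage_pullback (f := b.left) (g := φ.left)
    (IsLocalRing.closedPoint K) x hx.symm
  obtain ⟨y, -, hy⟩ := nonempty_inter_closedPoints (X := Q) ⟨z, Set.mem_univ z⟩ isOpen_univ.isLocallyClosed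
  let t := pointOfClosedPoint q y hy
  have ht : t ≫ q = 𝟙 _ := pointOfClosedPoint_comp q y hy
  have hlift : (t ≫ pullback.snd b.left φ.left) ≫ φ.left = b.left := by
    rw [Category.assoc, ← pullback.condition, ← Category.assoc]
    exact (congrArg (· ≫ b.left) ht).trans (Category.id_comp _)
  refine ⟨Over.homMk (t ≫ pullback.snd b.left φ.left) ?_, ?_⟩
  · rw [← Over.w φ, ← Category.assoc, hlift, Over.w b]
  · ext1; exact hlift

variable (G : Over (Spec (CommRingCat.of K))) [GrpObj G] [IsCommMonObj G] [Smooth G.hom] [QuasiCompact G.hom]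
  [ConnectedSpace G.left]

theorem etale_pow_field {n : ℕ} (hn : (n : K) ≠ 0) : Etale (𝟙 G ^ n : G ⟶ G).left := by
  refine SmoothGrpTors.etale_pow n ?_
  have := (isUnit_iff_ne_zero.mpr hn).map (Scheme.ΓSpecIso (CommRingCat.of K)).inv.hom
  rwa [map_natCast] at this

/-- Points of a connected smooth commutative group are divisible by integers prime to the characteristic. -/
theorem exists_root {n : ℕ} (hn : (n : K) ≠ 0) (b : pt₀ ⟶ G) : ∃ a : pt₀ ⟶ G, a ^ n = b := by
  let φ : G ⟶ G := 𝟙 G ^ n
  haveI : Etale φ.left := etale_pow_field G hn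
  haveI : IrreducibleSpace G.left := GrpFieldLib.SmoothDense.irreducibleSpace_of_connected G.hom
  haveI : JacobsonSpace G.left := LocallyOfFiniteType.jacobsonSpace G.hom
  have hopen : IsOpen (Set.range φ.left) := φ.left.isOpenMap.isOpen_range
  have hne : (Set.range φ.left).Nonempty := Set.range_nonempty _
  let τ : G ⟶ G := (toUnit G ≫ b) * 𝟙 G
  let τ' : G ⟶ G := (toUnit G ≫ b⁻¹) * 𝟙 G
  have hτ : ∀ (a : pt₀ ⟶ G), a ≫ τ = b * a := fun a => by
    rw [MonObj.comp_mul, Category.comp_id, ← Category.assoc,
      show a ≫ toUnit G = 𝟙 _ from toUnit_unique _ _, Category.id_comp]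
  have hττ : τ' ≫ τ = 𝟙 G := by
    rw [MonObj.comp_mul, Category.comp_id, ← Category.assoc,
      show τ' ≫ toUnit G = toUnit G from toUnit_unique _ _]
    show (toUnit G ≫ b) * ((toUnit G ≫ b⁻¹) * 𝟙 G) = 𝟙 G
    rw [← _root_.mul_assoc, ← MonObj.comp_mul, mul_inv_cancel, MonObj.comp_one, _root_.one_mul]
  haveI hsurj : Surjective τ.left := ⟨fun x => ⟨τ'.left x, by
    show (τ' ≫ τ).left x = x
    rw [hττ]; rfl⟩⟩
  have hopen' : IsOpen (τ.left ⁻¹' Set.range φ.left) := hopen.preimage τ.left.continuous
  have hne' : (τ.left ⁻¹' Set.range φ.left).Nonempty := hne.preimage τ.left.surjective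
  obtain ⟨y, ⟨hy1, hy2⟩, hy⟩ := nonempty_inter_closedPoints (X := G.left)
    (nonempty_preirreducible_inter hopen hopen' hne hne') (hopen.inter hopen').isLocallyClosed
  let c : pt₀ ⟶ G := Over.homMk (pointOfClosedPoint G.hom y hy) (pointOfClosedPoint_comp G.hom y hy)
  obtain ⟨x₁, hx₁⟩ := hy1
  obtain ⟨x₂, hx₂⟩ := hy2
  obtain ⟨a₁, ha₁⟩ := exists_point_lift φ c (x := x₁) (hx₁.trans (pointOfClosedPoint_apply G.hom y hy _).symm)
  obtain ⟨a₂, ha₂⟩ := exists_point_lift φ (c ≫ τ) (x := x₂) (hx₂.trans
    (congrArg τ.left (pointOfClosedPoint_apply G.hom y hy _).symm))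
  refine ⟨a₂ * a₁⁻¹, ?_⟩
  have e : ∀ a : pt₀ ⟶ G, a ≫ φ = a ^ n := fun a => by rw [MonObj.comp_pow, Category.comp_id]
  rw [e] at ha₁ ha₂
  rw [mul_pow, inv_pow, ha₁, ha₂, hτ, mul_inv_cancel_right]

/-- A unipotent upper triangular matrix of order prime to the characteristic is trivial. -/
theorem matrix_eq_one {d n : ℕ} (hn : (n : K) ≠ 0) {N : Matrix (Fin d) (Fin d) K}
    (hN : ∀ i j, j ≤ i → N i j = 0) (h : (1 + N) ^ n = 1) : N = 0 := by
  classical
  have key : ∀ r : ℕ, ∀ i j : Fin d, j.val ≤ i.val + r → N i j = 0 := by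
    intro r
    induction r with
    | zero => exact fun i j hij => hN i j hij
    | succ r ih =>
      have hpow : ∀ m : ℕ, ∀ i j : Fin d, j.val ≤ i.val + (r + 1) →
          ((1 + N) ^ m) i j = (1 : Matrix (Fin d) (Fin d) K) i j + (m : K) * N i j := by
        intro m
        induction m with
        | zero => intro i j _; simp
        | succ m ihm =>
          intro i j hij
          rw [pow_succ, Matrix.mul_add, Matrix.mul_one, Matrix.add_apply, ihm i j hij, Matrix.mul_apply,
            Finset.sum_eq_single i (fun l _ hl => ?_) (by simp), ihm i i (by omega), Matrix.one_apply_eq,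
            ih i i (by omega)]
          · push_cast; ring
          · rcases Nat.lt_or_ge (i.val + r) l.val with h1 | h1
            · rw [ih l j (by omega), MulZeroClass.mul_zero]
            · rw [ihm i l (by omega), Matrix.one_apply_ne (Ne.symm hl), ih i l h1, MulZeroClass.mul_zero,
                add_zero, MulZeroClass.zero_mul]
      intro i j hij
      have h1 := hpow n i j hij
      rw [h] at h1
      exact (mul_eq_zero.mp (left_eq_add.mp h1)).resolve_left hn
  ext i j
  exact key d i j (by omega)

section NoComm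

open GModLib in
/-- A connected group without subtori has no torsion prime to the characteristic. -/
theorem eq_one_of_pow_eq_one {G : Over (Spec (CommRingCat.of K))} [GrpObj G] [Smooth G.hom]
    [ConnectedSpace G.left] [IsAffine G.left] (hG : Red.HasNoSubtorus K G) {n : ℕ} (hn : (n : K) ≠ 0)
    (a : VecGrp.pt K K ⟶ G) (ha : a ^ n = 1) : a = 1 := by
  obtain ⟨d, M, hM⟩ := exists_triangular (isSolvableGrp_of_hasNoSubtorus hG)
  apply matHom_injective hM
  have h := mem_uni_of_hasNoSubtorus hM hG a
  have hN : matHom hM a - 1 = 0 := matrix_eq_one hn (fun i j hij => (lev_one_iff hM a).mp h i j (by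
      have : j.val ≤ i.val := hij
      omega))
    (by rw [add_sub_cancel, ← map_pow, ha, map_one])
  rw [map_one]
  exact sub_eq_zero.mp hN

end NoComm

end Groth.Agent.PseudoAbTate
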