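import Mathlib.AlgebraicGeometry.Morphisms.Etale
import Mathlib.AlgebraicGeometry.AlgClosed.Basic
import Mathlib.RingTheory.Unramified.Field
import Mathlib.RingTheory.Unramified.Finite
import Mathlib.FieldTheory.IsSepClosed
import Mathlib.FieldTheory.SeparableClosure

/-!
Points of unramified schemes over a field with values in an extension come from the separable closure.
-/

set_option autoImplicit false
set_option maxHeartbeats 800000
set_option linter.style.haveILetI false

universe u

open CategoryTheory CategoryTheory.Limits AlgebraicGeometry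

namespace Groth.Agent.PseudoAbTate

/-- The image of an unramified algebra of finite type in a field consists of separable elements. -/
theorem isSeparable_of_algHom {k A K : Type u} [Field k] [CommRing A] [Algebra k A] [Algebra.FiniteType k A]
    [Algebra.FormallyUnramified k A] [Field K] [Algebra k K] (φ : A →ₐ[k] K) (a : A) : IsSeparable k (φ a) := by
  haveI : Module.Finite k A := Algebra.FormallyUnramified.finite_of_free k A
  haveI : IsArtinianRing A := isArtinian_of_tower k inferInstance
  let P := RingHom.ker φ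
  haveI : P.IsPrime := RingHom.ker_isPrime φ
  haveI : P.IsMaximal := IsArtinianRing.isMaximal_of_isPrime P
  letI : Field (A ⧸ P) := Ideal.Quotient.field P
  haveI : Algebra.FormallyUnramified k (A ⧸ P) :=
    Algebra.FormallyUnramified.of_surjective (Ideal.Quotient.mkₐ k P) Ideal.Quotient.mk_surjective
  haveI : Algebra.IsSeparable k (A ⧸ P) := Algebra.FormallyUnramified.isSeparable k (A ⧸ P)
  let g : (A ⧸ P) →ₐ[k] K := Ideal.Quotient.liftₐ P φ (fun x hx => hx)
  have h : g (Ideal.Quotient.mkₐ k P a) = φ a := Ideal.Quotient.lift_mk _ _ _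
  rw [← h]
  exact IsSeparable.map g (RingHom.injective g.toRingHom) (Algebra.IsSeparable.isSeparable k (Ideal.Quotient.mkₐ k P a))

/-- Separable elements of an extension of a separably closed field lie in that field. -/
theorem mem_range_of_isSeparable {k Ω K : Type u} [Field k] [Field Ω] [Field K] [Algebra k Ω] [Algebra k K]
    [IsSepClosed Ω] (j : Ω →ₐ[k] K) {x : K} (hx : IsSeparable k x) : x ∈ j.range := by
  letI : Algebra Ω K := j.toRingHom.toAlgebra
  haveI : IsScalarTower k Ω K := IsScalarTower.of_algebraMap_eq fun r => (j.commutes r).symm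
  have hs : IsSeparable Ω x := IsSeparable.tower_top Ω hx
  have h1 : (minpoly Ω x).degree = 1 :=
    IsSepClosed.degree_eq_one_of_irreducible Ω (minpoly.irreducible hs.isIntegral) hs
  obtain ⟨y, hy⟩ := minpoly.mem_range_of_degree_eq_one Ω x h1
  exact ⟨y, hy⟩

/-- A field valued point of an unramified scheme over `k` is defined over a separable closure of `k`. -/
theorem exists_lift_sepClosed {k Ω K : Type u} [Field k] [Field Ω] [Field K] [Algebra k Ω] [Algebra k K]
    [IsSepClosed Ω] (j : Ω →ₐ[k] K) {Z : Scheme.{u}} (z : Z ⟶ Spec (CommRingCat.of k))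
    [FormallyUnramified z] [LocallyOfFiniteType z] (b : Spec (CommRingCat.of K) ⟶ Z)
    (hb : b ≫ z = Spec.map (CommRingCat.ofHom (algebraMap k K))) :
    ∃ a : Spec (CommRingCat.of Ω) ⟶ Z, a ≫ z = Spec.map (CommRingCat.ofHom (algebraMap k Ω)) ∧
      Spec.map (CommRingCat.ofHom j.toRingHom) ≫ a = b := by
  obtain ⟨U, hU, hxU, -⟩ := exists_isAffineOpen_mem_and_subset
    (show b (IsLocalRing.closedPoint K) ∈ (⊤ : Z.Opens) from trivial)
  have htop : b ⁻¹ᵁ U = ⊤ := top_le_iff.mp fun y _ => by
    obtain rfl : y = IsLocalRing.closedPoint K := Subsingleton.elim (α := PrimeSpectrum K) _ _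
    exact hxU
  let e := hU.fromSpec
  have hrange : Set.range b ⊆ Set.range e := by
    rw [hU.range_fromSpec]
    rintro _ ⟨y, rfl⟩
    exact (show y ∈ b ⁻¹ᵁ U from htop ▸ trivial)
  let b₀ := IsOpenImmersion.lift e b hrange
  haveI : LocallyOfFiniteType (e ≫ z) := inferInstance
  haveI : FormallyUnramified (e ≫ z) := MorphismProperty.comp_mem @FormallyUnramified e z inferInstance inferInstance
  let f := Spec.preimage (e ≫ z)
  have hf : Spec.map f = e ≫ z := Spec.map_preimage _
  letI : Algebra k Γ(Z, U) := f.hom.toAlgebra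
  have hfu : f.hom.FormallyUnramified := by
    rw [← HasRingHomProperty.Spec_iff (P := @FormallyUnramified), hf]
    infer_instance
  have hft : f.hom.FiniteType := by
    rw [← HasRingHomProperty.Spec_iff (P := @LocallyOfFiniteType), hf]
    infer_instance
  haveI : Algebra.FormallyUnramified k Γ(Z, U) := hfu
  haveI : Algebra.FiniteType k Γ(Z, U) := hft
  let g := Spec.preimage b₀
  have hg : Spec.map g = b₀ := Spec.map_preimage _
  have hgf : f ≫ g = CommRingCat.ofHom (algebraMap k K) := by
    apply Spec.map_injective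
    rw [Spec.map_comp, hg, hf, ← Category.assoc, IsOpenImmersion.lift_fac, hb]
  let φ : Γ(Z, U) →ₐ[k] K :=
    { g.hom with commutes' := fun r => congr($(hgf).hom r) }
  have hrng : ∀ a, φ a ∈ j.range := fun a => mem_range_of_isSeparable j (isSeparable_of_algHom φ a)
  let ψ : Γ(Z, U) →ₐ[k] Ω :=
    ((AlgEquiv.ofInjective j j.toRingHom.injective).symm.toAlgHom).comp (φ.codRestrict j.range hrng)
  have hψ : ∀ a, j (ψ a) = φ a := fun a =>
    congrArg Subtype.val ((AlgEquiv.ofInjective j j.toRingHom.injective).apply_symm_apply ⟨φ a, hrng a⟩)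
  refine ⟨Spec.map (CommRingCat.ofHom ψ.toRingHom) ≫ e, ?_, ?_⟩
  · rw [Category.assoc, ← hf, ← Spec.map_comp]
    congr 1
    ext r
    exact ψ.commutes r
  · rw [← Category.assoc, ← Spec.map_comp,
      show CommRingCat.ofHom ψ.toRingHom ≫ CommRingCat.ofHom j.toRingHom = g from by ext a; exact hψ a,
      hg, IsOpenImmersion.lift_fac]

/-- A nonempty unramified scheme over a separably closed field has a rational point. -/
theorem exists_section {Ω : Type u} [Field Ω] [IsSepClosed Ω] {Z : Scheme.{u}} (z : Z ⟶ Spec (CommRingCat.of Ω))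
    [FormallyUnramified z] [LocallyOfFiniteType z] [Nonempty Z] :
    ∃ a : Spec (CommRingCat.of Ω) ⟶ Z, a ≫ z = 𝟙 _ := by
  let x : Z := Classical.arbitrary Z
  letI : Algebra Ω (Z.residueField x) := (Spec.preimage (Z.fromSpecResidueField x ≫ z)).hom.toAlgebra
  obtain ⟨a, ha, -⟩ := exists_lift_sepClosed (k := Ω) (Ω := Ω) (K := Z.residueField x) (Algebra.ofId Ω _) z
    (Z.fromSpecResidueField x) (Spec.map_preimage _).symm
  exact ⟨a, ha.trans (by simp)⟩

end Groth.Agent.PseudoAbTate
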