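import Groth.Agent.PseudoAbTate.Etale
import Groth.Agent.PseudoAbTate.Divisible
import Groth.Agent.TorsPtsLib.BC
import Groth.Agent.TorsPtsLib.TateFree
import Groth.Agent.GrpSchLib.AntiAffineHom

/-!
Torsion prime to the characteristic of a group which after a purely inseparable extension is an
extension of an abelian variety by a group without subtori.
-/

set_option autoImplicit false
set_option linter.style.haveILetI false
set_option backward.isDefEq.respectTransparency false
set_option maxHeartbeats 800000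

universe u

open CategoryTheory CategoryTheory.Limits MonoidalCategory CartesianMonoidalCategory MonObj GrpObj AlgebraicGeometry

noncomputable section

namespace Groth.Agent.PseudoAbTate

theorem isCommMonObj_pullback {S S' : Scheme.{u}} (σ : S' ⟶ S) (X : Over S) [GrpObj X] [IsCommMonObj X] :
    IsCommMonObj ((Over.pullback σ).obj X) :=
  ((Over.pullback σ).mapCommMon.obj <| CommMon.mk X).comm

/-- Points over a composite are points of the base change. -/
def ptsBC {S S' S'' : Scheme.{u}} (f : S' ⟶ S) (g : S'' ⟶ S') (X : Over S) [GrpObj X] :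
    (Over.mk (g ≫ f) ⟶ X) ≃* (Over.mk g ⟶ (Over.pullback f).obj X) where
  toFun a := Over.homMk (pullback.lift a.left g (by rw [Over.w]; rfl)) (pullback.lift_snd _ _ _)
  invFun b := Over.homMk (b.left ≫ pullback.fst X.hom f) (by
    rw [Category.assoc, pullback.condition, ← Category.assoc]
    exact congrArg (· ≫ f) (Over.w b))
  left_inv a := by ext1; exact pullback.lift_fst _ _ _
  right_inv b := by
    ext1
    apply pullback.hom_ext
    · exact pullback.lift_fst _ _ _
    · exact (pullback.lift_snd _ _ _).trans (Over.w b).symm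
  map_mul' a b := by
    let u : Over.mk g ⟶ (Over.pullback f).obj (Over.mk (g ≫ f)) :=
      Over.homMk (pullback.lift (𝟙 _) g (Category.id_comp _)) (pullback.lift_snd _ _ _)
    have e : ∀ c : Over.mk (g ≫ f) ⟶ X, (Over.homMk (pullback.lift c.left g (by rw [Over.w]; rfl))
        (pullback.lift_snd _ _ _) : Over.mk g ⟶ (Over.pullback f).obj X) = u ≫ (Over.pullback f).map c := by
      intro c
      ext1
      apply pullback.hom_ext
      · simp only [u, Over.homMk_left, Over.comp_left, pullback.lift_fst, Category.assoc]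
        rw [show ((Over.pullback f).map c).left ≫ pullback.fst X.hom f = pullback.fst (Over.mk (g ≫ f)).hom f ≫ c.left from
          pullback.lift_fst _ _ _, pullback.lift_fst_assoc]
        exact (Category.id_comp _).symm
      · simp only [u, Over.homMk_left, Over.comp_left, pullback.lift_snd, Category.assoc]
        rw [show ((Over.pullback f).map c).left ≫ pullback.snd X.hom f = pullback.snd (Over.mk (g ≫ f)).hom f from
          pullback.lift_snd _ _ _, pullback.lift_snd]
    rw [e, e, e, ← MonObj.comp_mul]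
    congr 1
    exact _root_.map_mul ((Over.pullback f).homMonoidHom) a b

section Points

variable {k Ω K : Type u} [Field k] [Field Ω] [Field K] [Algebra k Ω] [Algebra k K] [IsSepClosed Ω] [IsAlgClosed K]
  (j : Ω →ₐ[k] K) (P : Over (Spec (CommRingCat.of k))) [GrpObj P] [IsCommMonObj P] [Smooth P.hom]

local notation "TΩ" => (Over.mk (Spec.map (CommRingCat.ofHom (algebraMap k Ω))))
local notation "TK" => (Over.mk (Spec.map (CommRingCat.ofHom (algebraMap k K))))

/-- Restriction of points along the extension. -/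
def resPt : TK ⟶ TΩ :=
  Over.homMk (Spec.map (CommRingCat.ofHom j.toRingHom)) (by
    show Spec.map _ ≫ Spec.map _ = Spec.map _
    rw [← Spec.map_comp]
    congr 1
    ext r
    exact j.commutes r)

omit [IsSepClosed Ω] [IsAlgClosed K] [GrpObj P] [IsCommMonObj P] [Smooth P.hom] in
theorem resPt_injective (a b : TΩ ⟶ P) (h : resPt j ≫ a = resPt j ≫ b) : a = b := by
  let m := Spec.map (CommRingCat.ofHom j.toRingHom)
  haveI : Flat m := by
    rw [HasRingHomProperty.Spec_iff (P := @Flat)]
    show j.toRingHom.Flat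
    letI := j.toRingHom.toAlgebra
    exact inferInstanceAs (Module.Flat Ω K)
  haveI : Surjective m := ⟨fun p => ⟨IsLocalRing.closedPoint K, @Subsingleton.elim (PrimeSpectrum Ω) _ _ _⟩⟩
  haveI : Epi m := Flat.epi_of_flat_of_surjective _
  ext1
  exact (cancel_epi m).mp (congrArg CommaMorphism.left h)

omit [IsSepClosed Ω] [IsAlgClosed K] [IsCommMonObj P] [Smooth P.hom] in
theorem res_pow (a : TΩ ⟶ P) (n : ℕ) : resPt j ≫ a ^ n = (resPt j ≫ a) ^ n := MonObj.comp_pow _ _ _

variable [QuasiCompact P.hom]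

theorem etale_pow_field' {n : ℕ} (hn : (n : k) ≠ 0) : Etale (𝟙 P ^ n : P ⟶ P).left := by
  refine SmoothGrpTors.etale_pow n ?_
  have := (isUnit_iff_ne_zero.mpr hn).map (Scheme.ΓSpecIso (CommRingCat.of k)).inv.hom
  rwa [map_natCast] at this

include j in
/-- Separable points are divisible as soon as geometric ones are. -/
theorem exists_root_sep {n : ℕ} (hn : (n : k) ≠ 0) (hK : ∀ b : TK ⟶ P, ∃ a : TK ⟶ P, a ^ n = b)
    (b : TΩ ⟶ P) : ∃ a : TΩ ⟶ P, a ^ n = b := by
  let φ : P ⟶ P := 𝟙 P ^ n
  haveI : Etale φ.left := etale_pow_field' P hn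
  obtain ⟨aK, haK⟩ := hK (resPt j ≫ b)
  let Q := pullback b.left φ.left
  let q : Q ⟶ Spec (CommRingCat.of Ω) := pullback.fst b.left φ.left
  have hφ : aK ≫ φ = resPt j ≫ b := by rw [MonObj.comp_pow, Category.comp_id, haK]
  haveI : Nonempty Q := ⟨(pullback.lift (resPt j).left aK.left
    (congrArg CommaMorphism.left hφ).symm) (IsLocalRing.closedPoint K)⟩
  haveI : Etale q := MorphismProperty.pullback_fst _ _ inferInstance
  obtain ⟨s, hs⟩ := exists_section q
  have h1 : (s ≫ pullback.snd b.left φ.left) ≫ φ.left = b.left := by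
    rw [Category.assoc, ← pullback.condition, ← Category.assoc]
    exact (congrArg (· ≫ b.left) hs).trans (Category.id_comp _)
  refine ⟨Over.homMk (s ≫ pullback.snd b.left φ.left) (by rw [← Over.w φ, ← Category.assoc, h1, Over.w b]), ?_⟩
  rw [← Category.comp_id (Over.homMk _ _), ← MonObj.comp_pow]
  ext1
  exact h1

include j in
/-- Torsion prime to the characteristic is defined over the separable closure. -/
theorem card_tors_sep {n : ℕ} (hn : (n : k) ≠ 0) :
    Nat.card (AbDual.torsPts P n TΩ) = Nat.card (AbDual.torsPts P n TK) := by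
  let φ : P ⟶ P := 𝟙 P ^ n
  haveI : Etale φ.left := etale_pow_field' P hn
  refine Nat.card_eq_of_bijective (fun a => ⟨resPt j ≫ a.1, by
    show (resPt j ≫ a.1) ^ n = 1
    rw [← res_pow, show a.1 ^ n = 1 from a.2, MonObj.comp_one]⟩) ⟨fun a b h => ?_, fun x => ?_⟩
  · exact Subtype.ext (resPt_injective j P _ _ (congrArg Subtype.val h))
  · let Z := pullback φ.left η[P].left
    let z : Z ⟶ Spec (CommRingCat.of k) := pullback.snd φ.left η[P].left
    haveI : Etale z := MorphismProperty.pullback_snd _ _ inferInstance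
    have hx : (x.1 ≫ φ) = toUnit _ ≫ η[P] := by
      rw [MonObj.comp_pow, Category.comp_id, show x.1 ^ n = 1 from x.2]
      rfl
    let bz : Spec (CommRingCat.of K) ⟶ Z :=
      pullback.lift x.1.left (Spec.map (CommRingCat.ofHom (algebraMap k K))) (congrArg CommaMorphism.left hx)
    obtain ⟨a, ha, hab⟩ := exists_lift_sepClosed j z bz (pullback.lift_snd _ _ _)
    have h1 : (a ≫ pullback.fst φ.left η[P].left) ≫ φ.left =
        Spec.map (CommRingCat.ofHom (algebraMap k Ω)) ≫ η[P].left := by
      rw [Category.assoc, pullback.condition, ← Category.assoc]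
      exact congrArg (· ≫ η[P].left) ha
    let aΩ : TΩ ⟶ P := Over.homMk (a ≫ pullback.fst φ.left η[P].left) (by
      rw [← Over.w φ, ← Category.assoc, h1, Category.assoc]
      exact (congrArg (Spec.map _ ≫ ·) (Over.w η[P])).trans (Category.comp_id _))
    refine ⟨⟨aΩ, ?_⟩, Subtype.ext ?_⟩
    · show aΩ ^ n = 1
      rw [← Category.comp_id aΩ, ← MonObj.comp_pow]
      ext1
      exact h1
    · ext1
      show Spec.map _ ≫ a ≫ pullback.fst φ.left η[P].left = x.1.left
      rw [← Category.assoc]
      exact (congrArg (· ≫ pullback.fst φ.left η[P].left) hab).trans (pullback.lift_fst _ _ _)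

end Points

section Geometric

variable {L K : Type u} [Field L] [Field K] [IsAlgClosed K] (g : L →+* K)
  {H G A : Over (Spec (CommRingCat.of L))} [GrpObj H] [GrpObj G] [IsCommMonObj G] [GrpObj A] [IsCommMonObj A]

local notation "T" => (Over.mk (Spec.map (CommRingCat.ofHom g)))

theorem geom_root [Smooth G.hom] [QuasiCompact G.hom] [ConnectedSpace G.left] {n : ℕ} (hn : (n : K) ≠ 0)
    (b : T ⟶ G) : ∃ a : T ⟶ G, a ^ n = b := by
  let σ := Spec.map (CommRingCat.ofHom g)
  let GK := Red.bc σ G
  haveI : IsCommMonObj GK := isCommMonObj_pullback σ G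
  haveI : Smooth GK.hom := MorphismProperty.pullback_snd _ _ inferInstance
  haveI : QuasiCompact GK.hom := MorphismProperty.pullback_snd _ _ inferInstance
  haveI : ConnectedSpace GK.left := GrpSchLib.AntiAffine.connectedSpace_bc G g
  obtain ⟨a, ha⟩ := exists_root GK hn (TorsPtsLib.bcPtsEquiv σ G b)
  exact ⟨(TorsPtsLib.bcPtsEquiv σ G).symm a, by rw [← map_pow, ha, MulEquiv.symm_apply_apply]⟩

omit [GrpObj G] [GrpObj A] [IsCommMonObj G] [IsCommMonObj A] in
theorem geom_eq_one [IsAffine H.left] [Smooth H.hom] [ConnectedSpace H.left]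
    (hH : Red.HasNoSubtorus K (Red.bc (Spec.map (CommRingCat.ofHom g)) H)) {n : ℕ} (hn : (n : K) ≠ 0)
    (a : T ⟶ H) (ha : a ^ n = 1) : a = 1 := by
  let σ := Spec.map (CommRingCat.ofHom g)
  let HK := Red.bc σ H
  haveI : Smooth HK.hom := MorphismProperty.pullback_snd _ _ inferInstance
  haveI : QuasiCompact HK.hom := MorphismProperty.pullback_snd _ _ inferInstance
  haveI : IsAffine HK.left := inferInstanceAs (IsAffine (pullback H.hom σ))
  haveI : ConnectedSpace HK.left := GrpSchLib.AntiAffine.connectedSpace_bc H g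
  let c : VecGrp.pt K K ⟶ 𝟙_ (Over (Spec (CommRingCat.of K))) := toUnit _
  haveI : IsIso (VecGrp.pt K K).hom := by
    show IsIso (Spec.map (CommRingCat.ofHom (algebraMap K K)))
    rw [Algebra.algebraMap_self, CommRingCat.ofHom_id, Spec.map_id]
    infer_instance
  haveI : IsIso c := by
    haveI : IsIso ((Over.forget _).map c) := inferInstanceAs (IsIso (VecGrp.pt K K).hom)
    exact isIso_of_reflects_iso c (Over.forget _)
  have h1 : (c ≫ TorsPtsLib.bcPtsEquiv σ H a) ^ n = 1 := by
    rw [← MonObj.comp_pow, ← map_pow, ha, map_one, MonObj.comp_one]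
  have h2 := eq_one_of_pow_eq_one (G := HK) hH hn _ h1
  rw [← MonObj.comp_one c, cancel_epi] at h2
  exact (MulEquiv.map_eq_one_iff _).mp h2

/-- Torsion of an extension of `A` by a group without torsion agrees with torsion of `A`. -/
theorem geom_card [LocallyOfFiniteType G.hom] [IsSeparated A.hom]
    [IsCommMonObj H] [IsAffine H.left] [Smooth H.hom] [ConnectedSpace H.left]
    (i : H ⟶ G) [IsMonHom i] [IsClosedImmersion i.left] (π : G ⟶ A) [IsMonHom π] [Surjective π.left]
    (hker : AlgGrp.IsKernel i π)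
    (hH : Red.HasNoSubtorus K (Red.bc (Spec.map (CommRingCat.ofHom g)) H)) {n : ℕ} (hn : (n : K) ≠ 0) :
    Nat.card (AbDual.torsPts G n T) = Nat.card (AbDual.torsPts A n T) := by
  haveI : Mono i := Over.mono_of_mono_left i
  have key : ∀ x : T ⟶ G, x ≫ π = 1 → ∃ h : T ⟶ H, h ≫ i = x := fun x hx =>
    ⟨hker.lift x (toUnit _) (by rw [hx]; rfl), hker.lift_fst _ _ _⟩
  have pπ : ∀ (x : T ⟶ G) (m : ℕ), (x ^ m) ≫ π = (x ≫ π) ^ m := fun x m => map_pow (IsMonHom.monoidHom π T) x m
  have pi : ∀ (h : T ⟶ H) (m : ℕ), (h ^ m) ≫ i = (h ≫ i) ^ m := fun h m => map_pow (IsMonHom.monoidHom i T) h m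
  refine Nat.card_eq_of_bijective (fun a => ⟨a.1 ≫ π, by
    show (a.1 ≫ π) ^ n = 1
    rw [← pπ, show a.1 ^ n = 1 from a.2, MonObj.one_comp]⟩) ⟨fun a b hab => ?_, fun y => ?_⟩
  · have h1 : (a.1 * b.1⁻¹) ≫ π = 1 := by
      rw [MonObj.mul_comp, GrpObj.inv_comp, show a.1 ≫ π = b.1 ≫ π from congrArg Subtype.val hab, mul_inv_cancel]
    obtain ⟨h, hh⟩ := key _ h1
    have h2 : h ^ n = 1 := by
      rw [← cancel_mono i, pi, hh, MonObj.one_comp, mul_pow, inv_pow, show a.1 ^ n = 1 from a.2,
        show b.1 ^ n = 1 from b.2, inv_one, _root_.mul_one]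
    rw [geom_eq_one g hH hn h h2, MonObj.one_comp] at hh
    exact Subtype.ext (mul_inv_eq_one.mp hh.symm)
  · let σ := Spec.map (CommRingCat.ofHom g)
    let πK : Red.bc σ G ⟶ Red.bc σ A := (Over.pullback σ).map π
    haveI : Surjective πK.left := MorphismProperty.baseChange_map (P := @Surjective) σ π inferInstance
    haveI : LocallyOfFiniteType πK.left := by
      haveI : LocallyOfFiniteType (πK.left ≫ (Red.bc σ A).hom) := by
        rw [Over.w]
        exact MorphismProperty.pullback_snd (P := @LocallyOfFiniteType) _ _ inferInstance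
      exact locallyOfFiniteType_of_comp _ (Red.bc σ A).hom
    obtain ⟨x₀, hx₀⟩ := πK.left.surjective ((TorsPtsLib.toBC σ A y.1).left (IsLocalRing.closedPoint K))
    obtain ⟨xK, hxK⟩ := exists_point_lift πK (TorsPtsLib.toBC σ A y.1) hx₀
    let x : T ⟶ G := TorsPtsLib.ofBC σ G xK
    have hx : x ≫ π = y.1 := by
      ext1
      have h := congrArg (fun m => m.left ≫ pullback.fst A.hom σ) hxK
      simp only [Over.comp_left, Category.assoc] at h
      rw [show πK.left ≫ pullback.fst A.hom σ = pullback.fst G.hom σ ≫ π.left from pullback.lift_fst _ _ _,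
        show (TorsPtsLib.toBC σ A y.1).left ≫ pullback.fst A.hom σ = y.1.left from pullback.lift_fst _ _ _] at h
      exact (Category.assoc _ _ _).trans h
    have h1 : (x ^ n) ≫ π = 1 := by rw [pπ, hx]; exact y.2
    obtain ⟨h, hh⟩ := key _ h1
    obtain ⟨h', hh'⟩ := geom_root g hn h
    refine ⟨⟨x * (h' ≫ i)⁻¹, ?_⟩, Subtype.ext ?_⟩
    · show (x * (h' ≫ i)⁻¹) ^ n = 1
      rw [mul_pow, inv_pow, ← pi, hh', hh, mul_inv_cancel]
    · show (x * (h' ≫ i)⁻¹) ≫ π = y.1
      rw [MonObj.mul_comp, GrpObj.inv_comp, Category.assoc, hker.w, ← Category.assoc,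
        show h' ≫ toUnit H = toUnit _ from toUnit_unique _ _, ← Hom.one_def, inv_one, _root_.mul_one, hx]

omit [IsCommMonObj A] in
/-- Torsion of an extension by a group without torsion comes from the subgroup. -/
theorem geom_card_sub [IsAffine A.left] [Smooth A.hom] [ConnectedSpace A.left] (i : H ⟶ G) [IsMonHom i]
    [IsClosedImmersion i.left] (q : G ⟶ A) [IsMonHom q] (hker : AlgGrp.IsKernel i q) [IsCommMonObj H]
    (hA : Red.HasNoSubtorus K (Red.bc (Spec.map (CommRingCat.ofHom g)) A)) {n : ℕ} (hn : (n : K) ≠ 0) :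
    Nat.card (AbDual.torsPts H n T) = Nat.card (AbDual.torsPts G n T) := by
  haveI : Mono i := Over.mono_of_mono_left i
  refine Nat.card_eq_of_bijective (fun a => ⟨a.1 ≫ i, by
    show (IsMonHom.monoidHom i T a.1) ^ n = 1
    rw [← map_pow, show a.1 ^ n = 1 from a.2, map_one]⟩) ⟨fun a b hab => ?_, fun y => ?_⟩
  · exact Subtype.ext ((cancel_mono i).mp (congrArg Subtype.val hab))
  · have h1 : (y.1 ≫ q) = 1 := geom_eq_one g hA hn _ (by
      show (IsMonHom.monoidHom q T y.1) ^ n = 1
      rw [← map_pow, show y.1 ^ n = 1 from y.2, map_one])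
    let h : T ⟶ H := hker.lift y.1 (toUnit _) (by rw [h1]; rfl)
    have hh : h ≫ i = y.1 := hker.lift_fst _ _ _
    refine ⟨⟨h, ?_⟩, Subtype.ext hh⟩
    show h ^ n = 1
    rw [← cancel_mono i, MonObj.one_comp]
    show IsMonHom.monoidHom i T (h ^ n) = 1
    rw [map_pow, show IsMonHom.monoidHom i T h = y.1 from hh]
    exact y.2

end Geometric

end Groth.Agent.PseudoAbTate
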